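/-
Lifting finite projective modules along a surjection with topologically nilpotent kernel.
-/
import Mathlib

universe u v

noncomputable section

namespace Groth.Agent.ProjLift

variable {W W' : Type u} [CommRing W] [CommRing W'] (q : W →+* W') (I : Ideal W) [IsAdicComplete I W]

theorem mem_jacobson (hJ : ∀ x ∈ RingHom.ker q, ∃ m : ℕ, x ^ m ∈ I) {x : W} (hx : x ∈ RingHom.ker q) :
    x ∈ (⊥ : Ideal W).jacobson := by
  obtain ⟨m, hm⟩ := hJ x hx
  rw [Ideal.jacobson, Submodule.mem_sInf]
  rintro M ⟨-, hM⟩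
  exact hM.isPrime.mem_of_pow_mem m (IsAdicComplete.le_jacobson_bot I |>.trans
    (sInf_le ⟨bot_le, hM⟩) hm)

variable {n : ℕ}

theorem newton {R : Type*} [Ring R] (e : R) :
    (3 * (e * e) - 2 * (e * e * e)) * (3 * (e * e) - 2 * (e * e * e)) - (3 * (e * e) - 2 * (e * e * e)) =
      (e * e - e) * (e * e - e) * (4 * (e * e - e) - 3) := by noncomm_ring

theorem newton_step {R : Type*} [Ring R] (e : R) :
    3 * (e * e) - 2 * (e * e * e) - e = (e * e - e) * (1 - 2 * e) := by noncomm_ring

/-- Lifting idempotent matrices. -/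
theorem exists_idempotent_matrix (I' : Ideal W') [IsHausdorff I' W'] (hI : I.map q ≤ I') (hq : Function.Surjective q) (hJ : ∀ x ∈ RingHom.ker q, ∃ m : ℕ, x ^ m ∈ I)
    (E' : Matrix (Fin n) (Fin n) W') (hE' : IsIdempotentElem E') :
    ∃ E : Matrix (Fin n) (Fin n) W, IsIdempotentElem E ∧ q.mapMatrix E = E' := by
  classical
  obtain ⟨E₀, hE₀⟩ : ∃ E₀ : Matrix (Fin n) (Fin n) W, q.mapMatrix E₀ = E' :=
    ⟨Matrix.of fun i j => (hq (E' i j)).choose, Matrix.ext fun i j => (hq (E' i j)).choose_spec⟩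
  set N₀ := E₀ * E₀ - E₀ with hN₀
  let A : Ideal W := Ideal.span (Set.range fun ij : Fin n × Fin n => N₀ ij.1 ij.2)
  have hAfg : A.FG := Submodule.fg_span (Set.finite_range _)
  have hAker : A ≤ RingHom.ker q := Ideal.span_le.2 (by
    rintro _ ⟨⟨i, j⟩, rfl⟩
    show q (N₀ i j) = 0
    have : q.mapMatrix N₀ = 0 := by rw [hN₀, map_sub, map_mul, hE₀, hE'.eq, sub_self]
    exact congrFun (congrFun this i) j)
  obtain ⟨s, hs⟩ : ∃ s, A ^ s ≤ I := by
    refine Ideal.exists_pow_le_of_le_radical_of_fg (fun x hx => ?_) hAfg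
    exact hJ x (hAker hx)
  -- matrices with entries in an ideal
  let Mem : Ideal W → Matrix (Fin n) (Fin n) W → Prop := fun K X => ∀ i j, X i j ∈ K
  have hmul : ∀ (K L : Ideal W) (X Y : Matrix (Fin n) (Fin n) W), Mem K X → Mem L Y → Mem (K * L) (X * Y) :=
    fun K L X Y hX hY i j => by
      rw [Matrix.mul_apply]; exact sum_mem fun l _ => Ideal.mul_mem_mul (hX i l) (hY l j)
  have hmulr : ∀ (K : Ideal W) (X Y : Matrix (Fin n) (Fin n) W), Mem K X → Mem K (X * Y) :=
    fun K X Y hX i j => by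
      rw [Matrix.mul_apply]; exact sum_mem fun l _ => Ideal.mul_mem_right _ _ (hX i l)
  let step : Matrix (Fin n) (Fin n) W → Matrix (Fin n) (Fin n) W := fun e => 3 * (e * e) - 2 * (e * e * e)
  let e : ℕ → Matrix (Fin n) (Fin n) W := fun k => step^[k] E₀
  have he : ∀ k, e (k + 1) = step (e k) := fun k => Function.iterate_succ_apply' step k E₀
  have hN : ∀ k, Mem (A ^ 2 ^ k) (e k * e k - e k) := by
    intro k
    induction k with
    | zero =>
      intro i j
      rw [pow_zero, pow_one]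
      exact Ideal.subset_span ⟨(i, j), rfl⟩
    | succ k ih =>
      rw [he]
      intro i j
      rw [show step (e k) * step (e k) - step (e k) = _ from newton (e k), pow_succ, pow_mul, pow_two]
      exact hmulr _ _ _ (hmul _ _ _ _ ih ih) i j
  have hd : ∀ a b, a ≤ b → Mem (A ^ a) (e b - e a) := by
    intro a b hab
    induction b, hab using Nat.le_induction with
    | base => intro i j; simp
    | succ b hab ih =>
      intro i j
      rw [show e (b + 1) - e a = (e (b + 1) - e b) + (e b - e a) by abel, Matrix.add_apply]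
      refine add_mem ?_ (ih i j)
      rw [he, show step (e b) - e b = _ from newton_step (e b)]
      exact Ideal.pow_le_pow_right (hab.trans (Nat.lt_two_pow_self).le) (hmulr _ _ _ (hN b) i j)
  have hpow : ∀ t, A ^ (s * t) ≤ I ^ t := fun t => by rw [pow_mul]; exact Ideal.pow_right_mono hs t
  choose L hL using fun ij : Fin n × Fin n => IsPrecomplete.prec (I := I) inferInstance
    (f := fun t => e (s * t) ij.1 ij.2) fun {a b} hab => by
      rw [SModEq.sub_mem, smul_eq_mul, Ideal.mul_top, ← neg_mem_iff, neg_sub]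
      exact hpow a (hd (s * a) (s * b) (Nat.mul_le_mul_left s hab) ij.1 ij.2)
  let E : Matrix (Fin n) (Fin n) W := Matrix.of fun i j => L (i, j)
  have hEe : ∀ t, Mem (I ^ t) (E - e (s * t)) := fun t i j => by
    have := hL (i, j) t
    rw [SModEq.sub_mem, smul_eq_mul, Ideal.mul_top, ← neg_mem_iff, neg_sub] at this
    exact this
  refine ⟨E, ?_, ?_⟩
  · show E * E = E
    ext i j
    rw [← sub_eq_zero]
    refine IsHausdorff.haus' (I := I) _ fun t => ?_
    rw [SModEq.zero, smul_eq_mul, Ideal.mul_top]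
    have hzero : (Ideal.Quotient.mk (I ^ t)).mapMatrix (E * E - E) = 0 := by
      have h1 : (Ideal.Quotient.mk (I ^ t)).mapMatrix E = (Ideal.Quotient.mk (I ^ t)).mapMatrix (e (s * t)) := by
        ext i j; exact Ideal.Quotient.eq.2 (hEe t i j)
      rw [map_sub, map_mul, h1, ← map_mul, ← map_sub]
      ext i j
      exact Ideal.Quotient.eq_zero_iff_mem.2 (hpow t (Ideal.pow_le_pow_right (Nat.lt_two_pow_self).le (hN _ i j)))
    exact Ideal.Quotient.eq_zero_iff_mem.1 (congrFun (congrFun hzero i) j)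
  · have h0 : e 0 = E₀ := rfl
    have hqe : ∀ k, q.mapMatrix (e k) = E' := fun k => by
      induction k with
      | zero => rw [h0, hE₀]
      | succ k ih =>
        rw [he]
        simp only [step, map_sub, map_mul, map_ofNat, ih, hE'.eq]
        noncomm_ring
    ext i j
    show q (L (i, j)) = E' i j
    rw [← sub_eq_zero]
    refine IsHausdorff.haus' (I := I') _ fun t => ?_
    rw [SModEq.zero, smul_eq_mul, Ideal.mul_top, ← congrFun (congrFun (hqe (s * t)) i) j]
    show q (L (i, j)) - q (e (s * t) i j) ∈ I' ^ t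
    rw [← map_sub]
    exact Ideal.pow_right_mono hI t (by rw [← Ideal.map_pow]; exact Ideal.mem_map_of_mem q (hEe t i j))

/-- Existence of lifts. -/
theorem exists_lift (hq : Function.Surjective q) (hJ : ∀ x ∈ RingHom.ker q, ∃ m : ℕ, x ^ m ∈ I)
    (I' : Ideal W') [IsHausdorff I' W'] (hI : I.map q ≤ I')
    (P : Type u) [AddCommGroup P] [Module W' P] [Module.Finite W' P] [Module.Projective W' P] :
    ∃ (P' : Type u) (_ : AddCommGroup P') (_ : Module W P'),
      Module.Finite W P' ∧ Module.Projective W P' ∧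
        ∃ π : P' →ₛₗ[q] P, Function.Surjective π ∧ LinearMap.ker π = RingHom.ker q • (⊤ : Submodule W P') := by
  classical
  obtain ⟨n, f, hf⟩ := Module.Finite.exists_fin' W' P
  obtain ⟨σ, hσ⟩ := Module.projective_lifting_property f LinearMap.id hf
  let φ : (Fin n → W') →ₗ[W'] (Fin n → W') := σ ∘ₗ f
  have hfs : ∀ y, f (σ y) = y := fun y => LinearMap.congr_fun hσ y
  let E' := LinearMap.toMatrix' φ
  have hE' : IsIdempotentElem E' := by
    show E' * E' = E'
    rw [← LinearMap.toMatrix'_comp]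
    congr 1
    exact LinearMap.ext fun v => congrArg σ (hfs (f v))
  obtain ⟨E, hE, hEq⟩ := exists_idempotent_matrix q I I' hI hq hJ E' hE'
  let P' : Submodule W (Fin n → W) := LinearMap.range E.mulVecLin
  have hfix : ∀ v ∈ P', E.mulVec v = v := by
    rintro _ ⟨w, rfl⟩
    rw [Matrix.mulVecLin_apply, Matrix.mulVec_mulVec, hE.eq]
  let r : (Fin n → W) →ₗ[W] P' := E.mulVecLin.rangeRestrict
  have hr : r ∘ₗ P'.subtype = LinearMap.id := LinearMap.ext fun v => Subtype.ext (hfix v.1 v.2)
  have hproj : Module.Projective W P' := Module.Projective.of_split P'.subtype r hr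
  have hfin : Module.Finite W P' := Module.Finite.of_surjective r E.mulVecLin.surjective_rangeRestrict
  let c : (Fin n → W) →ₛₗ[q] (Fin n → W') :=
    { toFun := fun v i => q (v i)
      map_add' := fun v w => funext fun i => map_add q _ _
      map_smul' := fun a v => funext fun i => map_mul q _ _ }
  have hcE : ∀ v, c (E.mulVec v) = φ (c v) := fun v => by
    rw [show φ (c v) = E'.mulVec (c v) from (LinearMap.toMatrix'_mulVec φ (c v)).symm, ← hEq]
    exact funext fun i => RingHom.map_mulVec q E v i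
  let π : P' →ₛₗ[q] P :=
    { toFun := fun v => f (c v.1)
      map_add' := fun v w => by rw [Submodule.coe_add, map_add, map_add]
      map_smul' := fun a v => by rw [Submodule.coe_smul, map_smulₛₗ, map_smul] }
  refine ⟨P', inferInstance, inferInstance, hfin, hproj, π, fun y => ?_, le_antisymm (fun v hv => ?_) ?_⟩
  · choose w hw using fun i => hq (σ y i)
    refine ⟨r w, ?_⟩
    show f (c (E.mulVec w)) = y
    rw [hcE, show c w = σ y from funext hw]
    show f (σ (f (σ y))) = y
    rw [hfs, hfs]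
  · have hv0 : f (c v.1) = 0 := hv
    have hφ : φ (c v.1) = 0 := by show σ (f (c v.1)) = 0; rw [hv0, map_zero]
    rw [← hcE, hfix v.1 v.2] at hφ
    have hsum : v = ∑ i, v.1 i • r (Pi.single i 1) := by
      conv_lhs => rw [show v = r v.1 from Subtype.ext (hfix v.1 v.2).symm,
        pi_eq_sum_univ' (R := W) v.1, map_sum]
      simp [map_smul]
    rw [hsum]
    exact sum_mem fun i _ => Submodule.smul_mem_smul (RingHom.mem_ker.2 (congrFun hφ i)) trivial
  · refine Submodule.smul_le.2 fun a ha v _ => ?_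
    show π (a • v) = 0
    rw [map_smulₛₗ, RingHom.mem_ker.1 ha, zero_smul]

/-- Uniqueness of lifts. -/
theorem exists_equiv (hJ : ∀ x ∈ RingHom.ker q, ∃ m : ℕ, x ^ m ∈ I)
    (P : Type u) [AddCommGroup P] [Module W' P]
    (P₁ : Type u) [AddCommGroup P₁] [Module W P₁] [Module.Finite W P₁] [Module.Projective W P₁]
    (P₂ : Type u) [AddCommGroup P₂] [Module W P₂] [Module.Finite W P₂] [Module.Projective W P₂]
    (π₁ : P₁ →ₛₗ[q] P) (π₂ : P₂ →ₛₗ[q] P) (h₁ : Function.Surjective π₁)
    (k₁ : LinearMap.ker π₁ = RingHom.ker q • (⊤ : Submodule W P₁)) (h₂ : Function.Surjective π₂)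
    (k₂ : LinearMap.ker π₂ = RingHom.ker q • (⊤ : Submodule W P₂)) :
    ∃ e : P₁ ≃ₗ[W] P₂, ∀ x : P₁, π₂ (e x) = π₁ x := by
  letI : Module W P := Module.compHom P q
  let τ₁ : P₁ →ₗ[W] P := { toFun := π₁, map_add' := map_add π₁, map_smul' := fun a x => map_smulₛₗ π₁ a x }
  let τ₂ : P₂ →ₗ[W] P := { toFun := π₂, map_add' := map_add π₂, map_smul' := fun a x => map_smulₛₗ π₂ a x }
  obtain ⟨h, hh⟩ := Module.projective_lifting_property τ₂ τ₁ h₂
  obtain ⟨h', hh'⟩ := Module.projective_lifting_property τ₁ τ₂ h₁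
  have e1 : ∀ x, π₂ (h x) = π₁ x := fun x => LinearMap.congr_fun hh x
  have e2 : ∀ x, π₁ (h' x) = π₂ x := fun x => LinearMap.congr_fun hh' x
  have hbij : ∀ {M : Type u} [AddCommGroup M] [Module W M] [Module.Finite W M] (g : M →ₗ[W] M),
      (∀ x, g x - x ∈ RingHom.ker q • (⊤ : Submodule W M)) → Function.Bijective g := by
    intro M _ _ _ g hg
    refine OrzechProperty.bijective_of_surjective_endomorphism g (LinearMap.range_eq_top.1 (top_le_iff.1 ?_))
    refine Submodule.le_of_le_smul_of_le_jacobson_bot Module.Finite.fg_top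
      (fun x hx => mem_jacobson q I hJ hx) fun x _ => ?_
    exact Submodule.mem_sup.2 ⟨g x, ⟨x, rfl⟩, x - g x, by rw [← neg_mem_iff, neg_sub]; exact hg x, add_sub_cancel _ _⟩
  have b1 : Function.Bijective (h' ∘ₗ h) := hbij _ fun x => by
    rw [← k₁, LinearMap.mem_ker, map_sub, LinearMap.comp_apply, e2, e1, sub_self]
  have b2 : Function.Bijective (h ∘ₗ h') := hbij _ fun x => by
    rw [← k₂, LinearMap.mem_ker, map_sub, LinearMap.comp_apply, e1, e2, sub_self]
  exact ⟨LinearEquiv.ofBijective h ⟨fun a b hab => b1.1 (congrArg h' hab),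
    fun y => let ⟨x, hx⟩ := b2.2 y; ⟨h' x, hx⟩⟩, e1⟩

end Groth.Agent.ProjLift
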